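import Mathlib.GroupTheory.Transfer
import Mathlib.GroupTheory.Abelianization.Defs
import Mathlib.RepresentationTheory.Basic
import Mathlib.LinearAlgebra.FreeModule.Finite.CardQuotient
import Mathlib.LinearAlgebra.FreeModule.Finite.Quotient
import Mathlib.LinearAlgebra.Matrix.Adjugate

/-!
The principal ideal theorem in group form: the transfer `G → G'/G''` is trivial.
Proof by the determinant trick over the group ring of `G/G'`.
-/

namespace Cfsg.Agent.PrincipalIdeal

open Module

noncomputable section

variable {G : Type*} [Group G]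

/-- A `det`-trick: if `M v = 0` then `det M • v = 0`. -/
theorem det_smul_eq_zero {R W ι : Type*} [CommRing R] [AddCommGroup W] [Module R W]
    [Fintype ι] [DecidableEq ι] (M : Matrix ι ι R) (v : ι → W)
    (h : ∀ k, ∑ g, M k g • v g = 0) (i : ι) : M.det • v i = 0 := by
  have : ∑ g, (M.adjugate * M) i g • v g = 0 := by
    simp_rw [Matrix.mul_apply, Finset.sum_smul, mul_smul]
    rw [Finset.sum_comm]
    simp_rw [← Finset.smul_sum, h, smul_zero, Finset.sum_const_zero]
  rw [Matrix.adjugate_mul] at this
  simpa [Matrix.smul_apply, Matrix.one_apply, ite_smul, Finset.sum_ite_eq] using this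

/-- The augmentation of the group ring over `ℤ`. -/
def aug (Q : Type*) [CommGroup Q] : MonoidAlgebra ℤ Q →ₐ[ℤ] ℤ :=
  MonoidAlgebra.lift ℤ ℤ Q 1

/-- An element killed by all `q - 1` has constant coefficients. -/
theorem eq_smul_sum {Q : Type*} [CommGroup Q] [Fintype Q] (d : MonoidAlgebra ℤ Q)
    (h : ∀ q : Q, MonoidAlgebra.of ℤ Q q * d = d) :
    d = ∑ q : Q, d.coeff 1 • MonoidAlgebra.of ℤ Q q := by
  classical
  ext q
  have := congrArg (fun x => x.coeff q) (h q)
  simp only [MonoidAlgebra.of_apply, MonoidAlgebra.coeff_single_mul_apply, one_mul,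
    inv_mul_cancel] at this
  rw [MonoidAlgebra.coeff_sum]
  simp only [MonoidAlgebra.of_apply, MonoidAlgebra.smul_single, smul_eq_mul, mul_one,
    MonoidAlgebra.coeff_single, Finsupp.finsetSum_apply, Finsupp.single_apply]
  simp [this]

variable [Finite G]

/-- The relation lattice of all elements of `G` in its abelianisation has a square basis of
determinant `± [G : G']`. -/
theorem exists_relations [Fintype G] [DecidableEq G] :
    ∃ r : G → G → ℤ, (Matrix.of r).det.natAbs = Nat.card (Abelianization G) ∧
      ∀ k, ∑ g, r k g • Additive.ofMul (Abelianization.of g) = 0 := by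
  let Ψ : (G → ℤ) →+ Additive (Abelianization G) :=
    (Fintype.linearCombination ℤ fun g : G => Additive.ofMul (Abelianization.of g)).toAddMonoidHom
  have hΨ : ∀ r, Ψ r = ∑ g, r g • Additive.ofMul (Abelianization.of g) := fun r =>
    Fintype.linearCombination_apply _ _ r
  have hsurj : Function.Surjective Ψ := by
    intro x
    obtain ⟨g, hg⟩ := QuotientGroup.mk_surjective (s := commutator G) (Additive.toMul x)
    refine ⟨Pi.single g 1, ?_⟩
    rw [hΨ, Finset.sum_eq_single g]
    · rw [Pi.single_eq_same, one_smul]; exact congrArg Additive.ofMul hg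
    · intro b _ hb; rw [Pi.single_eq_of_ne hb, zero_smul]
    · simp
  let N : Submodule ℤ (G → ℤ) := Ψ.ker.toIntSubmodule
  have e : ((G → ℤ) ⧸ Ψ.ker) ≃+ Additive (Abelianization G) :=
    QuotientAddGroup.quotientKerEquivOfSurjective Ψ hsurj
  have : Finite (Abelianization G) :=
    Finite.of_surjective Abelianization.of (QuotientGroup.mk_surjective (s := commutator G))
  have : Finite (Additive (Abelianization G)) := Finite.of_equiv _ Additive.ofMul
  have hfin : Finite ((G → ℤ) ⧸ N) := Finite.of_equiv _ e.toEquiv.symm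
  have hrank : finrank ℤ N = finrank ℤ (G → ℤ) := (Submodule.finiteQuotient_iff N).mp hfin
  let bN := Submodule.smithNormalFormBotBasis (Pi.basisFun ℤ G) hrank
  refine ⟨fun k g => (bN k : G → ℤ) g, ?_, fun k => ?_⟩
  · have h := Submodule.natAbs_det_basis_change (Pi.basisFun ℤ G) N bN
    rw [Pi.basisFun_det_apply] at h
    refine h.trans ?_
    exact Nat.card_congr e.toEquiv
  · rw [← hΨ]; exact (bN k).2

/-- **Principal ideal theorem** (group form). -/
theorem transfer_eq_one :
    MonoidHom.transfer (Abelianization.of : ↥(commutator G) →* Abelianization ↥(commutator G)) =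
      (1 : G →* Abelianization ↥(commutator G)) := by
  classical
  let : Fintype G := Fintype.ofFinite G
  let A := Additive (Abelianization ↥(commutator G))
  let Q := G ⧸ commutator G
  let : CommGroup Q := inferInstanceAs (CommGroup (Abelianization G))
  let : Fintype Q := Fintype.ofFinite Q
  let π : G →* Q := Abelianization.of
  have hmk : ∀ g : G, π g = (g : G ⧸ commutator G) := fun _ => rfl
  let t : Q → G := Quotient.out
  have ht : ∀ q, π (t q) = q := fun q => Quotient.out_eq' q
  let R := MonoidAlgebra ℤ Q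
  let ρ : Representation ℤ Q (Q → A) :=
    { toFun := fun r =>
        { toFun := fun f q => f (q * r)
          map_add' := fun _ _ => rfl
          map_smul' := fun _ _ => rfl }
      map_one' := LinearMap.ext fun f => funext fun q => congrArg f (mul_one q)
      map_mul' := fun r s => LinearMap.ext fun f => funext fun q => congrArg f (mul_assoc q r s).symm }
  let : Module R (Q → A) := Module.compHom _ ρ.asAlgebraHom.toRingHom
  have hsmul : ∀ (r : Q) (f : Q → A) (q : Q),
      (MonoidAlgebra.of ℤ Q r • f) q = f (q * r) := by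
    intro r f q
    change ρ.asAlgebraHom (MonoidAlgebra.of ℤ Q r) f q = _
    rw [Representation.asAlgebraHom_of]
    rfl
  have hmem : ∀ (g : G) (q : Q), (t q⁻¹)⁻¹ * (g * t ((π g)⁻¹ * q⁻¹)) ∈ commutator G := by
    intro g q
    refine (QuotientGroup.eq_one_iff _).mp ?_
    change π _ = 1
    rw [map_mul, map_mul, map_inv, ht, ht]
    simp
  let δ : G → Q → A := fun g q => Additive.ofMul (Abelianization.of ⟨_, hmem g q⟩)
  have hδ : ∀ g h : G, δ (g * h) = δ g + MonoidAlgebra.of ℤ Q (π g) • δ h := by
    intro g h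
    funext q
    rw [Pi.add_apply, hsmul]
    simp only [δ]
    rw [← ofMul_mul, ← map_mul (Abelianization.of (G := ↥(commutator G)))]
    refine congrArg Additive.ofMul (congrArg Abelianization.of ?_)
    apply Subtype.ext
    simp only [Subgroup.coe_mul, map_mul]
    have e1 : ((π g * π h)⁻¹ * q⁻¹) = (π h)⁻¹ * (q * π g)⁻¹ := by
      rw [mul_inv_rev, mul_inv_rev, mul_assoc]
    have e2 : (π g)⁻¹ * q⁻¹ = (q * π g)⁻¹ := by simp [mul_comm]
    rw [e1, e2]
    group
  let D : G → (Q → A) × R := fun g => (δ g, MonoidAlgebra.of ℤ Q (π g) - 1)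
  have hD : ∀ g h : G, D (g * h) = D g + MonoidAlgebra.of ℤ Q (π g) • D h := by
    intro g h
    refine Prod.ext ?_ ?_
    · exact hδ g h
    · simp only [D, map_mul, Prod.snd_add, Prod.smul_snd, smul_eq_mul]
      ring
  -- the combinations with coefficients in the augmentation ideal
  let L : (G → R) →+ (Q → A) × R := (Fintype.linearCombination R D).toAddMonoidHom
  have hL : ∀ c, L c = ∑ g, c g • D g := fun c => Fintype.linearCombination_apply _ _ c
  let S : AddSubgroup ((Q → A) × R) :=
    (AddSubgroup.pi Set.univ fun _ : G => (aug Q).toRingHom.toAddMonoidHom.ker).map L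
  have hS : ∀ (q : Q) (g : G), (MonoidAlgebra.of ℤ Q q - 1) • D g ∈ S := by
    intro q g
    refine AddSubgroup.mem_map.mpr ⟨Pi.single g (MonoidAlgebra.of ℤ Q q - 1), ?_, ?_⟩
    · intro i _
      change aug Q ((Pi.single g (MonoidAlgebra.of ℤ Q q - 1) : G → R) i) = 0
      rcases eq_or_ne i g with rfl | hi
      · rw [Pi.single_eq_same, map_sub, map_one, aug, MonoidAlgebra.lift_of]; simp
      · rw [Pi.single_eq_of_ne hi, map_zero]
    · rw [hL, Finset.sum_eq_single g]
      · rw [Pi.single_eq_same]
      · intro b _ hb; rw [Pi.single_eq_of_ne hb, zero_smul]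
      · simp
  let χ : G →* Multiplicative (((Q → A) × R) ⧸ S) :=
    MonoidHom.mk' (fun g => Multiplicative.ofAdd ((D g : (Q → A) × R) : _ ⧸ S)) fun g h => by
      rw [← ofAdd_add, ← QuotientAddGroup.mk_add]
      refine congrArg Multiplicative.ofAdd ((QuotientAddGroup.eq).mpr ?_)
      have : -D (g * h) + (D g + D h) = -((MonoidAlgebra.of ℤ Q (π g) - 1) • D h) := by
        rw [hD, sub_smul, one_smul]; abel
      rw [this]
      exact S.neg_mem (hS _ _)
  let χ' : Additive (Abelianization G) →+ (((Q → A) × R) ⧸ S) :=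
    MonoidHom.toAdditiveLeft (Abelianization.lift χ)
  have hχ' : ∀ g : G, χ' (Additive.ofMul (Abelianization.of g)) = ((D g : (Q → A) × R) : _ ⧸ S) := by
    intro g
    change Multiplicative.toAdd (Abelianization.lift χ (Abelianization.of g)) = _
    rw [Abelianization.lift_apply_of]
    rfl
  obtain ⟨r, hrdet, hr⟩ := exists_relations (G := G)
  have hc : ∀ k, ∃ c : G → R, (∀ g, aug Q (c g) = 0) ∧
      ∑ g, c g • D g = ∑ g, r k g • D g := by
    intro k
    have h := congrArg χ' (hr k)
    simp only [map_sum, map_zsmul, hχ', map_zero] at h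
    have h2 : ((∑ g, r k g • D g : (Q → A) × R) : _ ⧸ S) = 0 := by
      rw [← h]
      exact map_sum (QuotientAddGroup.mk' S) _ _
    obtain ⟨c, hc, hc'⟩ := AddSubgroup.mem_map.mp ((QuotientAddGroup.eq_zero_iff _).mp h2)
    exact ⟨c, fun g => hc g (Set.mem_univ g), (hL c).symm.trans hc'⟩
  choose c hc0 hcD using hc
  let M : Matrix G G R := Matrix.of fun k g => (r k g : R) - c k g
  have hM : ∀ k, ∑ g, M k g • D g = 0 := by
    intro k
    simp only [M, Matrix.of_apply, sub_smul, Finset.sum_sub_distrib, hcD, Int.cast_smul_eq_zsmul,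
      sub_self]
  have hkill : ∀ g, M.det • D g = 0 := fun g => det_smul_eq_zero M D hM g
  have hsnd : ∀ g, M.det * (MonoidAlgebra.of ℤ Q (π g) - 1) = 0 := fun g => by
    simpa [D] using congrArg Prod.snd (hkill g)
  have hd : M.det = ∑ q : Q, M.det.coeff 1 • MonoidAlgebra.of ℤ Q q := by
    refine eq_smul_sum _ fun q => ?_
    have := hsnd (t q)
    rw [ht, mul_sub, mul_one, sub_eq_zero, mul_comm] at this
    exact this
  have haug : (aug Q M.det).natAbs = Fintype.card Q := by
    rw [AlgHom.map_det]
    have : M.map (aug Q) = Matrix.of r := by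
      ext k g
      simp [M, hc0]
    rw [AlgHom.mapMatrix_apply, this, hrdet, ← Nat.card_eq_fintype_card]
    rfl
  have hunit : M.det.coeff 1 = 1 ∨ M.det.coeff 1 = -1 := by
    rw [hd, map_sum] at haug
    simp only [map_zsmul, aug, MonoidAlgebra.lift_of, MonoidHom.one_apply, smul_eq_mul, mul_one,
      Finset.sum_const, Finset.card_univ, nsmul_eq_mul, Int.natAbs_mul, Int.natAbs_natCast] at haug
    have hpos : 0 < Fintype.card Q := Fintype.card_pos
    exact Int.natAbs_eq_iff.mp (Nat.eq_of_mul_eq_mul_left hpos (by rw [mul_one]; exact haug) :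
      (M.det.coeff 1).natAbs = 1)
  refine MonoidHom.ext fun g => ?_
  have h1 := congrArg Prod.fst (hkill g)
  simp only [D, Prod.smul_fst, Prod.fst_zero] at h1
  rw [hd, Finset.sum_smul] at h1
  have h2 := congrFun h1 1
  simp only [Finset.sum_apply, smul_assoc, Pi.smul_apply, hsmul, one_mul, Pi.zero_apply,
    ← Finset.smul_sum] at h2
  have h3 : ∑ q : Q, δ g q = 0 := by
    rcases hunit with hu | hu <;> simpa [hu] using h2
  have hT : ∀ q : G ⧸ commutator G, ((t q : G) : G ⧸ commutator G) = q := ht
  let T : (commutator G).LeftTransversal := ⟨Set.range t, Subgroup.isComplement_range_left hT⟩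
  have h4 : ∀ q : G ⧸ commutator G, g⁻¹ • q = ((π g)⁻¹ * q : Q) := by
    intro q
    induction q using QuotientGroup.induction_on with
    | H x => rfl
  rw [MonoidHom.one_apply, MonoidHom.transfer_def _ T g]
  apply Additive.ofMul.injective
  rw [ofMul_one, ← h3, Subgroup.leftTransversals.diff, ofMul_prod]
  refine Fintype.sum_equiv (Equiv.inv Q) _ _ fun q => ?_
  simp only [δ, Equiv.inv_apply]
  congr 2
  apply Subtype.ext
  simp only [inv_inv]
  rw [Subgroup.smul_apply_eq_smul_apply_inv_smul, Subgroup.IsComplement.leftQuotientEquiv_apply hT,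
    Subgroup.IsComplement.leftQuotientEquiv_apply hT, smul_eq_mul, h4]

end

end Cfsg.Agent.PrincipalIdeal
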